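import Cfsg.Agent.H424.Spr.O8.Lin
import Cfsg.Agent.H604.Spr.Semi
import Cfsg.Agent.H884.ElLin
import Cfsg.Agent.H383.Cov.Inv
import Cfsg.Agent.H951.Lin
import Cfsg.Agent.LieClassical.OrthCenter

/-!
# S3938, `PΩ⁺₈(q)`: the end game for automorphisms which preserve the class of the stabiliser of a plane (helper424)
-/

set_option autoImplicit false
set_option linter.unusedSectionVars false

namespace Cfsg.Agent.H424.O8L

open Module QuadraticMap Cfsg Cfsg.Geo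
open Cfsg.Agent.LieClassical.OrthCore Cfsg.Agent.LieClassical.OrthFinite
open Cfsg.Agent.LieClassical.OrthTrans (Good)
open Cfsg.Agent.H951 (fx cm Inv mem_fx mem_cm)
open Cfsg.Agent.H884.El (lin)
open Cfsg.Agent.H383.Cov (fix_of_lt coprime_ne_zero)
open Cfsg.Agent.H604.Spr (mem_om exists_om)
open scoped MatrixGroups Matrix Pointwise

variable {ι : Type} [Fintype ι] [DecidableEq ι] {F : Type} [Field F]

theorem l_mul (g h : GL ι F) (v : ι → F) : lin (g * h) v = lin g (lin h v) := by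
  rw [lin, lin, lin, Units.val_mul, Matrix.toLin'_mul, LinearMap.comp_apply]

theorem l_one (v : ι → F) : lin (1 : GL ι F) v = v := by
  rw [lin, Units.val_one, Matrix.toLin'_one, LinearMap.id_apply]

theorem l_inv (g : GL ι F) (v : ι → F) : lin g⁻¹ (lin g v) = v := by
  rw [← l_mul, inv_mul_cancel, l_one]

theorem l_inv' (g : GL ι F) (v : ι → F) : lin g (lin g⁻¹ v) = v := by
  rw [← l_mul, mul_inv_cancel, l_one]

theorem l_pow (g : GL ι F) (n : ℕ) : lin (g ^ n) = (lin g) ^ n := by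
  rw [lin, lin, Units.val_pow_eq_pow_val, Matrix.toLin'_pow]

theorem l_neg (g : GL ι F) (v : ι → F) : lin (-g) v = - lin g v := by
  rw [lin, lin, Units.val_neg, map_neg, LinearMap.neg_apply]

theorem l_ext {g h : GL ι F} (H : ∀ v, lin g v = lin h v) : g = h := by
  apply Units.ext
  apply Matrix.toLin'.injective
  exact LinearMap.ext H

theorem l_inj (g : GL ι F) : Function.Injective (lin g) := fun v w hvw => by
  rw [← l_inv g v, hvw, l_inv]

theorem l_finrank (g : GL ι F) (W : Submodule F (ι → F)) : finrank F (W.map (lin g)) = finrank F W :=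
  (LinearEquiv.finrank_eq (Submodule.equivMapOfInjective (lin g) (l_inj g) W)).symm

/-- the embedding of `Ω` in `GL` -/
abbrev inc (f : (ι → F) → F) : Omega F f →* GL ι F := (isometryGroup F f).subtype.comp (Omega F f).subtype

theorem inc_inj {f : (ι → F) → F} {y z : Omega F f} (h : inc f y = inc f z) : y = z :=
  Subtype.ext (Subtype.ext h)

theorem inc_mem {f : (ι → F) → F} (y : Omega F f) : inc f y ∈ omegaGL f := ⟨y, y.2, rfl⟩

theorem exists_inc {f : (ι → F) → F} {g : GL ι F} (hg : g ∈ omegaGL f) : ∃ y : Omega F f, inc f y = g := by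
  obtain ⟨y, hy, rfl⟩ := hg
  exact ⟨⟨y, hy⟩, rfl⟩

/-- the image in `PΩ` of a subgroup of `GL` -/
def tpQ (f : (ι → F) → F) (H : Subgroup (GL ι F)) : Subgroup (POmega F f) :=
  (H.comap (inc f)).map (QuotientGroup.mk' (Subgroup.center (Omega F f)))

variable [Fintype F] {Q : QuadraticForm F (ι → F)}

abbrev pj (Q : QuadraticForm F (ι → F)) : Omega F ⇑Q →* POmega F ⇑Q :=
  QuotientGroup.mk' (Subgroup.center (Omega F ⇑Q))

section lift

variable (hG : Good Q)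
include hG

theorem five_le : 5 ≤ Fintype.card ι := by
  have := hG.dim
  rwa [Module.finrank_fintype_fun_eq_card] at this

theorem center_iff (z : Omega F ⇑Q) : z ∈ Subgroup.center (Omega F ⇑Q) ↔ inc ⇑Q z = 1 ∨ inc ⇑Q z = -1 := by
  rw [Cfsg.Agent.LieClassical.OrthCenter.mem_center_omega_iff (Cfsg.Agent.H377.nondegenerate_of_nondeg hG.nondeg)
    (by have := five_le hG; omega) (by
      obtain ⟨w, -, h1, h2⟩ := exists_sing_mem (Q := Q) (⊤ : Submodule F (ι → F)) (by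
        rw [finrank_top, Module.finrank_fintype_fun_eq_card]
        have := five_le hG
        omega)
      exact ⟨w, h1, h2⟩)]
  constructor
  · rintro (h | h)
    · exact Or.inl (Units.ext h)
    · exact Or.inr (Units.ext h)
  · rintro (h | h)
    · exact Or.inl (congrArg Units.val h)
    · exact Or.inr (congrArg Units.val h)

theorem mk_eq {y z : Omega F ⇑Q} (h : pj Q y = pj Q z) : inc ⇑Q z = inc ⇑Q y ∨ inc ⇑Q z = - inc ⇑Q y := by
  have h1 : y⁻¹ * z ∈ Subgroup.center (Omega F ⇑Q) := by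
    rw [← QuotientGroup.ker_mk' (Subgroup.center (Omega F ⇑Q)), MonoidHom.mem_ker, map_mul, map_inv, h,
      inv_mul_cancel]
  have h2 : inc ⇑Q z = inc ⇑Q y * inc ⇑Q (y⁻¹ * z) := by rw [← map_mul, mul_inv_cancel_left]
  rcases (center_iff hG _).1 h1 with h3 | h3
  · left; rw [h2, h3, mul_one]
  · right; rw [h2, h3, mul_neg, mul_one]

/-- membership in `tpQ H` for `H ∋ -1` -/
theorem mem_tpQ {H : Subgroup (GL ι F)} (hH : (-1 : GL ι F) ∈ H) {y : Omega F ⇑Q} :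
    pj Q y ∈ tpQ ⇑Q H ↔ inc ⇑Q y ∈ H := by
  constructor
  · rintro ⟨z, hz, hzy⟩
    have hz' : inc ⇑Q z ∈ H := hz
    rcases mk_eq hG hzy with h | h
    · rw [h]; exact hz'
    · rw [h, neg_eq_neg_one_mul]
      exact H.mul_mem hH hz'
  · exact fun h => ⟨y, h, rfl⟩

end lift

theorem q_lin {g : GL ι F} (hg : g ∈ omegaGL ⇑Q) (v : ι → F) : Q (lin g v) = Q v := by
  have h := (mem_isometryGroup_iff.1 (Cfsg.Agent.H383.Cov.omegaGL_le _ hg)) v
  exact h

theorem p_lin {g : GL ι F} (hg : g ∈ omegaGL ⇑Q) (v w : ι → F) : polar Q (lin g v) (lin g w) = polar Q v w := by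
  simp only [polar, ← map_add, q_lin hg]

/-- the data -/
structure Cf (Q : QuadraticForm F (ι → F)) (x t : GL ι F) (N : ℕ) : Prop where
  good : Good Q
  four : 4 ≤ Nat.card F
  dim : Fintype.card ι = 8
  odd : Odd N
  cop : N.Coprime (Nat.card F)
  cop' : ∀ i, 1 ≤ i → i < 6 → N.Coprime (Nat.card F ^ i - 1)
  x_mem : x ∈ omegaGL ⇑Q
  t_mem : t ∈ omegaGL ⇑Q
  x_pow : x ^ N = 1
  x_dim : finrank F (cm (lin x)) = 6
  t_fix : ∀ v ∈ cm (lin x), lin t v = v
  t_ne : t ≠ 1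

/-- the field `F[J]` -/
structure Fj (Q : QuadraticForm F (ι → F)) (x t : GL ι F) (J : Module.End F (ι → F)) (c d : F) : Prop where
  sq : ∀ v, J (J v) = c • J v - d • v
  irr : ∀ z : F, z * z - c * z + d ≠ 0
  sim : ∀ v, Q (J v) = d * Q v
  cx : ∀ v, J (lin x v) = lin x (J v)
  ct : ∀ v, J (lin t v) = lin t (J v)

/-- semilinear maps -/
def Sm (J : Module.End F (ι → F)) (c : F) (g : GL ι F) : Prop :=
  (∀ v, lin g (J v) = J (lin g v)) ∨ (∀ v, lin g (J v) = c • lin g v - J (lin g v))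

section basic

variable {x t : GL ι F} {N : ℕ} (h : Cf Q x t N)
include h

theorem Cf.orth {v w : ι → F} (hv : v ∈ cm (lin x)) (hw : w ∈ fx (lin x)) : polar Q v w = 0 := by
  obtain ⟨z, rfl⟩ := mem_cm.1 hv
  have h1 := p_lin h.x_mem z w
  rw [mem_fx.1 hw] at h1
  rw [polar_sub_left, h1, sub_self]

theorem Cf.lin_pow : (lin x) ^ N = 1 := by
  rw [← l_pow, h.x_pow]
  exact LinearMap.ext fun v => l_one v

theorem Cf.compl : IsCompl (fx (lin x)) (cm (lin x)) :=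
  H951.isCompl_fx_cm (coprime_ne_zero h.cop) h.lin_pow

theorem Cf.decomp (v : ι → F) : ∃ w ∈ fx (lin x), ∃ u ∈ cm (lin x), v = w + u := by
  have h1 : v ∈ fx (lin x) ⊔ cm (lin x) := by rw [h.compl.sup_eq_top]; trivial
  obtain ⟨w, hw, u, hu, rfl⟩ := Submodule.mem_sup.1 h1
  exact ⟨w, hw, u, hu, rfl⟩

theorem Cf.W_dim : finrank F (fx (lin x)) = 2 := by
  have h1 := Submodule.finrank_add_eq_of_isCompl h.compl
  rw [h.x_dim, Module.finrank_fintype_fun_eq_card, h.dim] at h1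
  omega

theorem Cf.nd {v : ι → F} (hv : v ∈ cm (lin x)) (hp : ∀ w ∈ cm (lin x), polar Q v w = 0) : v = 0 := by
  apply h.good.nondeg
  intro y
  obtain ⟨w, hw, u, hu, rfl⟩ := h.decomp y
  rw [polar_add_right, h.orth hv hw, hp u hu, add_zero]

theorem Cf.ndW {v : ι → F} (hv : v ∈ fx (lin x)) (hp : ∀ w ∈ fx (lin x), polar Q v w = 0) : v = 0 := by
  apply h.good.nondeg
  intro y
  obtain ⟨w, hw, u, hu, rfl⟩ := h.decomp y
  rw [polar_add_right, hp w hw, polar_comm Q v u, h.orth hu hv, add_zero]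

theorem Cf.x_inv {v : ι → F} (hv : v ∈ cm (lin x)) : lin x v ∈ cm (lin x) := H951.inv_cm v hv

theorem Cf.irr (K : Submodule F (ι → F)) (hK : K ≤ cm (lin x)) (hx : ∀ v ∈ K, lin x v ∈ K) :
    K = ⊥ ∨ K = cm (lin x) := by
  by_cases h1 : finrank F K < 6
  · left
    rw [Submodule.eq_bot_iff]
    intro v hv
    have h2 := fix_of_lt h.lin_pow h.cop h.cop' hx h1 hv
    have h3 : v ∈ fx (lin x) ⊓ cm (lin x) := ⟨mem_fx.2 h2, hK hv⟩
    rw [h.compl.inf_eq_bot] at h3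
    exact (Submodule.mem_bot F).1 h3
  · right
    apply Submodule.eq_of_le_of_finrank_le hK
    rw [h.x_dim]
    omega

theorem Cf.exists_proj : ∃ P : Module.End F (ι → F), (∀ v ∈ cm (lin x), P v = v) ∧ (∀ v ∈ fx (lin x), P v = 0) ∧
    ∀ v, P v ∈ cm (lin x) := by
  have h1 : ∀ v ∈ cm (lin x), LinearMap.ofIsCompl h.compl (0 : fx (lin x) →ₗ[F] (ι → F)) (cm (lin x)).subtype v = v :=
    fun v hv => LinearMap.ofIsCompl_apply_right h.compl ⟨v, hv⟩
  have h2 : ∀ v ∈ fx (lin x), LinearMap.ofIsCompl h.compl (0 : fx (lin x) →ₗ[F] (ι → F)) (cm (lin x)).subtype v = 0 :=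
    fun v hv => LinearMap.ofIsCompl_apply_left h.compl ⟨v, hv⟩
  refine ⟨_, h1, h2, fun v => ?_⟩
  obtain ⟨w, hw, u, hu, rfl⟩ := h.decomp v
  rw [map_add, h2 w hw, h1 u hu, zero_add]
  exact hu

/-- the elements of order `N` which preserve `W` are trivial on `W` -/
theorem Cf.triv {g : GL ι F} (hg : g ^ N = 1) (hW : ∀ w ∈ fx (lin x), lin g w ∈ fx (lin x)) {w : ι → F}
    (hw : w ∈ fx (lin x)) : lin g w = w := by
  have h1 : (lin g) ^ N = 1 := by
    rw [← l_pow, hg]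
    exact LinearMap.ext fun v => l_one v
  exact fix_of_lt h1 h.cop h.cop' hW (by rw [h.W_dim]; omega) hw

/-- isometries which preserve `W` preserve `[V, x]` -/
theorem Cf.pres {g : GL ι F} (hg : g ∈ omegaGL ⇑Q) (hW : (fx (lin x)).map (lin g) = fx (lin x)) {v : ι → F}
    (hv : v ∈ cm (lin x)) : lin g v ∈ cm (lin x) := by
  obtain ⟨w, hw, u, hu, he⟩ := h.decomp (lin g v)
  have h1 : w = 0 := by
    apply h.ndW hw
    intro w' hw'
    rw [← hW] at hw'
    obtain ⟨z, hz, rfl⟩ := hw'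
    have h2 : w = lin g v - u := by rw [he]; abel
    have h3 : lin g z ∈ fx (lin x) := by rw [← hW]; exact ⟨z, hz, rfl⟩
    rw [h2, polar_sub_left, p_lin hg, h.orth hv hz, h.orth hu h3, sub_self]
  rw [he, h1, zero_add]
  exact hu

theorem Cf.inv_mem {g : GL ι F} (hW : (fx (lin x)).map (lin g) = fx (lin x)) :
    (fx (lin x)).map (lin g⁻¹) = fx (lin x) := by
  conv_lhs => rw [← hW]
  ext v
  constructor
  · rintro ⟨_, ⟨w, hw, rfl⟩, rfl⟩
    rw [l_inv]
    exact hw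
  · intro hv
    exact ⟨lin g v, ⟨v, hv, rfl⟩, l_inv g v⟩

theorem Cf.t_W : (fx (lin x)).map (lin t) = fx (lin x) := by
  apply Submodule.eq_of_le_of_finrank_eq
  · rintro _ ⟨w, hw, rfl⟩
    obtain ⟨w', hw', u, hu, he⟩ := h.decomp (lin t w)
    have h1 : u = 0 := by
      apply h.nd hu
      intro v hv
      have h2 : u = lin t w - w' := by rw [he]; abel
      have h3 : polar Q (lin t w) v = 0 := by
        have := p_lin h.t_mem w v
        rw [h.t_fix v hv, polar_comm Q w v, h.orth hv hw] at this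
        exact this
      rw [h2, polar_sub_left, h3, polar_comm Q w' v, h.orth hv hw', sub_zero]
    rw [he, h1, add_zero]
    exact hw'
  · exact l_finrank _ _

end basic

section group

variable {x t : GL ι F} {N : ℕ} (h : Cf Q x t N)

/-- a lift of odd order -/
theorem exists_lift (hG : Good Q) (hN : Odd N) {y : POmega F ⇑Q} (hy : y ^ N = 1) :
    ∃ g : GL ι F, g ∈ omegaGL ⇑Q ∧ g ^ N = 1 ∧ ∃ z : Omega F ⇑Q, pj Q z = y ∧ (g = inc ⇑Q z ∨ g = - inc ⇑Q z) := by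
  obtain ⟨z, rfl⟩ := QuotientGroup.mk'_surjective _ y
  have h1 : z ^ N ∈ Subgroup.center (Omega F ⇑Q) := by
    rw [← QuotientGroup.ker_mk' (Subgroup.center (Omega F ⇑Q)), MonoidHom.mem_ker, map_pow]
    exact hy
  rcases (center_iff hG _).1 h1 with h2 | h2
  · refine ⟨inc ⇑Q z, inc_mem z, ?_, z, rfl, Or.inl rfl⟩
    rw [← map_pow]
    exact h2
  · refine ⟨- inc ⇑Q z, ?_, ?_, z, rfl, Or.inr rfl⟩
    · have h3 : - inc ⇑Q z = inc ⇑Q z * inc ⇑Q (z ^ N) := by rw [h2, mul_neg, mul_one]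
      rw [h3]
      exact (omegaGL ⇑Q).mul_mem (inc_mem _) (inc_mem _)
    · rw [hN.neg_pow, ← map_pow, h2, neg_neg]

/-- exact commutation -/
theorem exact_comm (hG : Good Q) (hN : Odd N) {τ z : Omega F ⇑Q} (hz : (inc ⇑Q z) ^ N = 1)
    (hc : pj Q τ * pj Q z = pj Q z * pj Q τ) : inc ⇑Q τ * inc ⇑Q z = inc ⇑Q z * inc ⇑Q τ := by
  rw [← map_mul, ← map_mul] at hc
  rcases mk_eq hG hc with h1 | h1
  · rw [map_mul, map_mul] at h1
    exact h1.symm
  · rw [map_mul, map_mul] at h1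
    -- `z τ = - τ z`
    have h2 : inc ⇑Q τ * inc ⇑Q z * (inc ⇑Q τ)⁻¹ = - inc ⇑Q z := by
      rw [mul_inv_eq_iff_eq_mul, neg_mul, h1, neg_neg]
    have h3 : (inc ⇑Q τ * inc ⇑Q z * (inc ⇑Q τ)⁻¹) ^ N = 1 := by
      rw [conj_pow, hz, mul_one, mul_inv_cancel]
    rw [h2, hN.neg_pow, hz] at h3
    have h4 : inc ⇑Q z * inc ⇑Q τ = (-1 : GL ι F) * (inc ⇑Q τ * inc ⇑Q z) := by rw [h1, neg_one_mul]
    rw [h3, one_mul] at h4
    exact h4.symm

include h

theorem Cf.one_comm {K₁ : Subgroup (POmega F ⇑Q)}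
    (m₁ : ∀ y : Omega F ⇑Q, pj Q y ∈ K₁ ↔ (fx (lin x)).map (lin (inc ⇑Q y)) = fx (lin x)) {t' : Omega F ⇑Q}
    (ht' : inc ⇑Q t' = t) {y : POmega F ⇑Q} (hy : y ∈ K₁) (hN : y ^ N = 1) : y * pj Q t' = pj Q t' * y := by
  obtain ⟨g, hg, hgN, z, rfl, hz⟩ := exists_lift h.good h.odd hN
  have hW : (fx (lin x)).map (lin g) = fx (lin x) := by
    rcases hz with rfl | rfl
    · exact (m₁ z).1 hy
    · have h1 := (m₁ z).1 hy
      have h2 : lin (-inc ⇑Q z) = -lin (inc ⇑Q z) := LinearMap.ext fun v => l_neg _ v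
      rw [h2, Submodule.map_neg]
      exact h1
  have hgt : g * t = t * g := by
    apply l_ext
    intro v
    obtain ⟨w, hw, u, hu, rfl⟩ := h.decomp v
    have e1 : lin t w ∈ fx (lin x) := by rw [← h.t_W]; exact ⟨w, hw, rfl⟩
    have e2 : ∀ w ∈ fx (lin x), lin g w = w := fun w hw => h.triv hgN (fun w hw => by rw [← hW]; exact ⟨w, hw, rfl⟩) hw
    rw [l_mul, l_mul, map_add, map_add, map_add, map_add, e2 _ e1, e2 _ hw, h.t_fix u hu, h.t_fix _ (h.pres hg hW hu)]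
  rw [← map_mul, ← map_mul]
  have h3 : z * t' = t' * z := by
    apply inc_inj
    rw [map_mul, map_mul, ht']
    rcases hz with rfl | rfl
    · exact hgt
    · rw [neg_mul, mul_neg, neg_inj] at hgt
      exact hgt
  rw [h3]

end group

section scal

variable {x t : GL ι F} {N : ℕ} (h : Cf Q x t N)
include h

theorem Cf.exists_ns : ∃ u ∈ cm (lin x), Q u ≠ 0 := by
  by_contra hcon
  push Not at hcon
  have h1 : cm (lin x) = ⊥ := by
    rw [Submodule.eq_bot_iff]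
    intro v hv
    apply h.nd hv
    intro w hw
    rw [polar, hcon _ ((cm (lin x)).add_mem hv hw), hcon v hv, hcon w hw]
    ring
  have h2 := h.x_dim
  rw [h1, finrank_bot] at h2
  omega

theorem Cf.J_W {J : Module.End F (ι → F)} (hJ : ∀ v, J (lin x v) = lin x (J v)) {v : ι → F} (hv : v ∈ fx (lin x)) :
    J v ∈ fx (lin x) := by
  rw [mem_fx, ← hJ, mem_fx.1 hv]

theorem Cf.J_A {J : Module.End F (ι → F)} (hJ : ∀ v, J (lin x v) = lin x (J v)) {v : ι → F} (hv : v ∈ cm (lin x)) :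
    J v ∈ cm (lin x) := by
  obtain ⟨z, rfl⟩ := mem_cm.1 hv
  exact mem_cm.2 ⟨J z, by rw [map_sub, hJ]⟩

theorem Cf.aniso {J : Module.End F (ι → F)} {c d : F} (f : Fj Q x t J c d) {w : ι → F} (hw : w ∈ fx (lin x))
    (h0 : w ≠ 0) : Q w ≠ 0 := by
  intro hQ
  exact h0 (h.ndW hw (O8L.aniso f.sq f.irr f.sim (fun v hv => h.J_W f.cx hv) h.W_dim.le hw h0 hQ))

/-- **a reflection of `[V, x]`** -/
theorem Cf.refl_el {J : Module.End F (ι → F)} {c d : F} (f : Fj Q x t J c d) {u : ι → F} (hu : u ∈ cm (lin x))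
    (hQ : Q u ≠ 0) : ∃ g ∈ omegaGL ⇑Q, ∃ w ∈ fx (lin x), Q w ≠ 0 ∧ (∀ v ∈ cm (lin x), lin g v = reflLin Q u v) ∧
      (∀ v ∈ fx (lin x), lin g v = reflLin Q w v) ∧ (fx (lin x)).map (lin g) = fx (lin x) := by
  obtain ⟨w, hw, hwu⟩ := exists_val (Q := Q) h.W_dim (fun w hw h0 => h.aniso f hw h0) (Q u)
  have hQw : Q w ≠ 0 := by rw [hwu]; exact hQ
  obtain ⟨g, hg, hge⟩ := exists_om h.good (h.good.refl_mul_refl_mem hQw hQ hwu)
  have hgv : ∀ v, lin g v = reflLin Q u (reflLin Q w v) := by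
    intro v
    rw [lin, Matrix.toLin'_apply, ← glEquiv_apply, hge, LinearEquiv.mul_apply]
    rfl
  have e1 : ∀ v ∈ cm (lin x), lin g v = reflLin Q u v := by
    intro v hv
    have h2 : reflLin Q w v = v := by
      rw [reflLin_apply, polar_comm Q w v, h.orth hv hw, mul_zero, zero_smul, sub_zero]
    rw [hgv, h2]
  have e2 : ∀ v ∈ fx (lin x), lin g v = reflLin Q w v := by
    intro v hv
    have h3 : reflLin Q w v ∈ fx (lin x) := by
      rw [reflLin_apply]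
      exact (fx (lin x)).sub_mem hv ((fx (lin x)).smul_mem _ hw)
    rw [hgv, reflLin_apply u, h.orth hu h3, mul_zero, zero_smul, sub_zero]
  have e3 : (fx (lin x)).map (lin g) ≤ fx (lin x) := by
    rintro _ ⟨v, hv, rfl⟩
    rw [e2 v hv, reflLin_apply]
    exact (fx (lin x)).sub_mem hv ((fx (lin x)).smul_mem _ hw)
  exact ⟨g, hg, w, hw, hQw, e1, e2, Submodule.eq_of_le_of_finrank_eq e3 (l_finrank _ _)⟩

/-- **the scalar** -/
theorem Cf.scal {J : Module.End F (ι → F)} {c d : F} (f : Fj Q x t J c d) {τ : GL ι F} (hτ : τ ∈ omegaGL ⇑Q)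
    (hW : (fx (lin x)).map (lin τ) = fx (lin x))
    (hc : ∀ g ∈ omegaGL ⇑Q, (fx (lin x)).map (lin g) = fx (lin x) → τ * (g⁻¹ * x * g) = (g⁻¹ * x * g) * τ) :
    ∃ l : F, ∀ v ∈ cm (lin x), lin τ v = l • v := by
  obtain ⟨u₀, hu₀, hQ₀⟩ := h.exists_ns
  have hx1 : τ * x = x * τ := by
    have h1 := hc 1 (omegaGL ⇑Q).one_mem (by
      have : lin (1 : GL ι F) = LinearMap.id := LinearMap.ext fun v => l_one v
      rw [this, Submodule.map_id])
    rw [inv_one, one_mul, mul_one] at h1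
    exact h1
  refine exists_scal h.four (fun u hu hQ => ?_) hu₀ hQ₀
  obtain ⟨g, hg, w, hw, hQw, e1, e2, hgW⟩ := h.refl_el f hu hQ
  have hR : ∀ v ∈ cm (lin x), reflLin Q u v ∈ cm (lin x) := by
    intro v hv
    rw [reflLin_apply]
    exact (cm (lin x)).sub_mem hv ((cm (lin x)).smul_mem _ hu)
  have e3 : ∀ v ∈ cm (lin x), lin g⁻¹ v = reflLin Q u v := by
    intro v hv
    apply l_inj g
    rw [l_inv', e1 _ (hR v hv), reflLin_reflLin hQ]
  have hk : ∀ v, lin (g * τ * g⁻¹) (lin x v) = lin x (lin (g * τ * g⁻¹) v) := by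
    intro v
    rw [← l_mul, ← l_mul]
    have h2 := hc g hg hgW
    have h3 : g * τ * g⁻¹ * x = x * (g * τ * g⁻¹) := by
      calc g * τ * g⁻¹ * x = g * (τ * (g⁻¹ * x * g)) * g⁻¹ := by group
        _ = g * ((g⁻¹ * x * g) * τ) * g⁻¹ := by rw [h2]
        _ = x * (g * τ * g⁻¹) := by group
    rw [h3]
  have hkv : ∀ v ∈ cm (lin x), lin (g * τ * g⁻¹) v = reflLin Q u (lin τ (reflLin Q u v)) := by
    intro v hv
    rw [l_mul, l_mul, e3 v hv, e1 _ (h.pres hτ hW (hR v hv))]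
  refine exists_eig (X := lin x) (fun v hv => h.nd hv) (by rw [h.x_dim]; norm_num) (fun v hv => h.x_inv hv) h.irr
    (fun v _ => ?_) hu hQ (fun v hv => ?_)
  · rw [← l_mul, ← l_mul, hx1]
  · rw [← hkv _ (h.x_inv hv), ← hkv v hv, hk]

end scal

/-- an element of the normaliser of `F[J]` which is a scalar on a subspace of dimension six -/
theorem range_inv (hd : Fintype.card ι = 8) {J T : Module.End F (ι → F)} {c d l : F}
    (sq : ∀ v, J (J v) = c • J v - d • v) (irr : ∀ z : F, z * z - c * z + d ≠ 0) (hl : l ≠ 0)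
    {A W : Submodule F (ι → F)} (hA : finrank F A = 6) (hT : ∀ v ∈ A, T v = l • v)
    (hS : (∀ v, T (J v) = J (T v)) ∨ (∀ v, T (J v) = c • T v - J (T v))) (hR : ∀ v, T v - l • v ∈ W)
    (hW : finrank F W = 2) (hne : ∃ v, T v ≠ l • v) : ∀ w ∈ W, J w ∈ W := by
  rcases hS with hS | hS
  · have h1 : LinearMap.range (T - l • (1 : Module.End F (ι → F))) ≤ W := by
      rintro _ ⟨v, rfl⟩
      exact hR v
    have h2 : ∀ w ∈ LinearMap.range (T - l • (1 : Module.End F (ι → F))),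
        J w ∈ LinearMap.range (T - l • (1 : Module.End F (ι → F))) := by
      rintro _ ⟨v, rfl⟩
      refine ⟨J v, ?_⟩
      change T (J v) - l • J v = J (T v - l • v)
      rw [hS, map_sub, map_smul]
    obtain ⟨v, hv⟩ := hne
    have h3 := two_le sq irr h2 (v := T v - l • v) ⟨v, rfl⟩ (sub_ne_zero.2 hv)
    have h4 := Submodule.eq_of_le_of_finrank_le h1 (by rw [hW]; exact h3)
    rw [← h4]
    exact h2
  · exfalso
    have hinj : Function.Injective J := by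
      rw [injective_iff_map_eq_zero]
      intro v hv
      by_contra hv0
      apply no_eig sq irr hv0 0
      rw [hv, zero_smul]
    have h1 : finrank F (A.map J) = 6 := by
      rw [← hA]
      exact (LinearEquiv.finrank_eq (Submodule.equivMapOfInjective J hinj A)).symm
    have h2 := Submodule.finrank_sup_add_finrank_inf_eq A (A.map J)
    have h3 : finrank F ↥(A ⊔ A.map J) ≤ 8 := by
      have := Submodule.finrank_le (A ⊔ A.map J)
      rwa [Module.finrank_fintype_fun_eq_card, hd] at this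
    have h4 : A ⊓ A.map J ≠ ⊥ := by
      intro h5
      rw [h5, finrank_bot] at h2
      omega
    obtain ⟨_, ⟨g1, v, hv, rfl⟩, h0⟩ := (Submodule.ne_bot_iff _).1 h4
    have hv0 : v ≠ 0 := by
      rintro rfl
      exact h0 (map_zero J)
    have h5 := hS v
    have h6 : T (J v) = l • J v := hT _ g1
    rw [h6, hT v hv, map_smul] at h5
    have h7 : (2 : F) • J v = c • v := by
      have h8 : l • ((2 : F) • J v) = l • (c • v) := by
        have : l • ((2 : F) • J v) = l • J v + l • J v := by module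
        rw [this]
        nth_rewrite 1 [h5]
        module
      exact smul_right_injective _ hl h8
    by_cases h8 : (2 : F) = 0
    · rw [h8, zero_smul] at h7
      have hc : c = 0 := (smul_eq_zero.1 h7.symm).resolve_right hv0
      have : CharP F 2 := CharTwo.of_one_ne_zero_of_two_eq_zero one_ne_zero h8
      obtain ⟨z, hz⟩ := FiniteField.isSquare_of_char_two (F := F) (ringChar.eq F 2) d
      apply irr z
      rw [← hz, hc, zero_mul, sub_zero]
      have h9 : (2 : F) * d = 0 := by rw [h8, zero_mul]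
      linear_combination h9
    · apply no_eig sq irr hv0 ((2 : F)⁻¹ * c)
      rw [mul_smul, ← h7, smul_smul, inv_mul_cancel₀ h8, one_smul]

section main

variable {x t : GL ι F} {N : ℕ} (h : Cf Q x t N)
include h

/-- a conjugate of `t` by a reflection commutes with `J` -/
theorem Cf.conj_comm {J : Module.End F (ι → F)} {c d : F} (f : Fj Q x t J c d) {u w : ι → F} {g : GL ι F}
    (hu : u ∈ cm (lin x)) (hQ : Q u ≠ 0) (hw : w ∈ fx (lin x)) (hQw : Q w ≠ 0)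
    (e1 : ∀ v ∈ cm (lin x), lin g v = reflLin Q u v) (e2 : ∀ v ∈ fx (lin x), lin g v = reflLin Q w v) (v : ι → F) :
    J (lin (g⁻¹ * t * g) v) = lin (g⁻¹ * t * g) (J v) := by
  have hR : ∀ v ∈ cm (lin x), reflLin Q u v ∈ cm (lin x) := by
    intro v hv
    rw [reflLin_apply]
    exact (cm (lin x)).sub_mem hv ((cm (lin x)).smul_mem _ hu)
  have hRw : ∀ v ∈ fx (lin x), reflLin Q w v ∈ fx (lin x) := by
    intro v hv
    rw [reflLin_apply]
    exact (fx (lin x)).sub_mem hv ((fx (lin x)).smul_mem _ hw)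
  have i1 : ∀ v ∈ cm (lin x), lin g⁻¹ v = reflLin Q u v := by
    intro v hv
    apply l_inj g
    rw [l_inv', e1 _ (hR v hv), reflLin_reflLin hQ]
  have i2 : ∀ v ∈ fx (lin x), lin g⁻¹ v = reflLin Q w v := by
    intro v hv
    apply l_inj g
    rw [l_inv', e2 _ (hRw v hv), reflLin_reflLin hQw]
  have ht : ∀ v ∈ fx (lin x), lin t v ∈ fx (lin x) := by
    intro v hv
    rw [← h.t_W]
    exact ⟨v, hv, rfl⟩
  have hJw : ∀ v ∈ fx (lin x), J (reflLin Q w v) = reflLin Q w (c • v - J v) := by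
    intro v hv
    have h1 := refl_J f.sq f.irr f.sim (fun v hv => h.J_W f.cx hv) h.W_dim.le hw hQw hv
    rw [← h1, reflLin_reflLin hQw]
  have hJw2 : ∀ v ∈ fx (lin x), reflLin Q w (J v) = c • reflLin Q w v - J (reflLin Q w v) := by
    intro v hv
    have h1 := refl_J f.sq f.irr f.sim (fun v hv => h.J_W f.cx hv) h.W_dim.le hw hQw (hRw v hv)
    rw [reflLin_reflLin hQw] at h1
    exact h1
  obtain ⟨w', hw', u', hu', rfl⟩ := h.decomp v
  have k1 : lin (g⁻¹ * t * g) u' = u' := by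
    rw [l_mul, l_mul, e1 u' hu', h.t_fix _ (hR u' hu'), i1 _ (hR u' hu'), reflLin_reflLin hQ]
  have k2 : lin (g⁻¹ * t * g) (J u') = J u' := by
    have := h.J_A f.cx hu'
    rw [l_mul, l_mul, e1 _ this, h.t_fix _ (hR _ this), i1 _ (hR _ this), reflLin_reflLin hQ]
  have k3 : ∀ v ∈ fx (lin x), lin (g⁻¹ * t * g) v = reflLin Q w (lin t (reflLin Q w v)) := by
    intro v hv
    rw [l_mul, l_mul, e2 v hv, i2 _ (ht _ (hRw v hv))]
  rw [map_add, map_add, map_add, map_add, k1, k2, k3 w' hw', k3 _ (h.J_W f.cx hw'), hJw _ (ht _ (hRw w' hw')),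
    hJw2 w' hw', map_sub (lin t), map_smul (lin t), f.ct]

/-- the key -/
theorem Cf.key {J : Module.End F (ι → F)} {c d : F} (f : Fj Q x t J c d) {K : Subgroup (POmega F ⇑Q)}
    (m : ∀ y : Omega F ⇑Q, pj Q y ∈ K ↔ Sm J c (inc ⇑Q y)) (a : MulAut (POmega F ⇑Q)) {Y τ t' g : Omega F ⇑Q}
    (ht' : inc ⇑Q t' = t) (ha : a (pj Q t') = pj Q (Y * τ * Y⁻¹)) {l : F} (hl : l ≠ 0)
    (hτA : ∀ v ∈ cm (lin x), lin (inc ⇑Q τ) v = l • v) (hτW : (fx (lin x)).map (lin (inc ⇑Q τ)) = fx (lin x))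
    (hne : ∃ v, lin (inc ⇑Q τ) v ≠ l • v)
    (hg : ∀ v, J (lin ((inc ⇑Q g)⁻¹ * t * inc ⇑Q g) v) = lin ((inc ⇑Q g)⁻¹ * t * inc ⇑Q g) (J v))
    (hK : a • (H424.Spr.c (pj Q g) • K) = H424.Spr.c (pj Q g) • K) :
    ∀ w ∈ (fx (lin x)).map (lin ((inc ⇑Q g)⁻¹ * inc ⇑Q Y)), J w ∈ (fx (lin x)).map (lin ((inc ⇑Q g)⁻¹ * inc ⇑Q Y)) := by
  have h1 : pj Q t' ∈ H424.Spr.c (pj Q g) • K := by
    rw [Subgroup.mem_pointwise_smul_iff_inv_smul_mem, ← map_inv]
    change (pj Q g)⁻¹ * pj Q t' * (pj Q g)⁻¹⁻¹ ∈ K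
    rw [inv_inv, ← map_inv, ← map_mul, ← map_mul, m, map_mul, map_mul, ht', map_inv]
    exact Or.inl fun v => (hg v).symm
  have h2 : a (pj Q t') ∈ H424.Spr.c (pj Q g) • K := by
    rw [← hK]
    exact H424.Spr.mem_smul a h1
  rw [ha, Subgroup.mem_pointwise_smul_iff_inv_smul_mem, ← map_inv] at h2
  change (pj Q g)⁻¹ * pj Q (Y * τ * Y⁻¹) * (pj Q g)⁻¹⁻¹ ∈ K at h2
  rw [inv_inv, ← map_inv, ← map_mul, ← map_mul, m] at h2
  set M : GL ι F := (inc ⇑Q g)⁻¹ * inc ⇑Q Y with hM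
  have h3 : inc ⇑Q (g⁻¹ * (Y * τ * Y⁻¹) * g) = M * inc ⇑Q τ * M⁻¹ := by
    simp only [map_mul, map_inv, hM]
    group
  rw [h3] at h2
  have hT : ∀ v, lin (M * inc ⇑Q τ * M⁻¹) v = lin M (lin (inc ⇑Q τ) (lin M⁻¹ v)) := by
    intro v
    rw [l_mul, l_mul]
  refine range_inv (A := (cm (lin x)).map (lin M)) (W := (fx (lin x)).map (lin M)) h.dim f.sq f.irr hl
    (by rw [l_finrank, h.x_dim]) ?_ h2 ?_ (by rw [l_finrank, h.W_dim]) ?_
  · rintro _ ⟨v, hv, rfl⟩
    rw [hT, l_inv, hτA v hv, map_smul]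
  · intro v
    refine ⟨lin (inc ⇑Q τ) (lin M⁻¹ v) - l • lin M⁻¹ v, ?_, ?_⟩
    · obtain ⟨w, hw, u, hu, he⟩ := h.decomp (lin M⁻¹ v)
      rw [he, map_add, hτA u hu, smul_add]
      have h4 : lin (inc ⇑Q τ) w ∈ fx (lin x) := by rw [← hτW]; exact ⟨w, hw, rfl⟩
      have h5 : lin (inc ⇑Q τ) w + l • u - (l • w + l • u) = lin (inc ⇑Q τ) w - l • w := by abel
      rw [h5]
      exact (fx (lin x)).sub_mem h4 ((fx (lin x)).smul_mem l hw)
    · rw [hT, map_sub, map_smul, l_inv']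
  · obtain ⟨v, hv⟩ := hne
    refine ⟨lin M v, fun h4 => hv ?_⟩
    rw [hT, l_inv, ← map_smul] at h4
    exact l_inj M h4

set_option maxHeartbeats 1600000 in
/-- **the end game** -/
theorem Cf.end_game {J J' : Module.End F (ι → F)} {c d : F} (f : Fj Q x t J c d) (f' : Fj Q x t J' c d)
    (agree : ∀ v ∈ cm (lin x), J' v = J v) {K₁ K₂ K₃ : Subgroup (POmega F ⇑Q)}
    (m₁ : ∀ y : Omega F ⇑Q, pj Q y ∈ K₁ ↔ (fx (lin x)).map (lin (inc ⇑Q y)) = fx (lin x))
    (m₂ : ∀ y : Omega F ⇑Q, pj Q y ∈ K₂ ↔ Sm J c (inc ⇑Q y))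
    (m₃ : ∀ y : Omega F ⇑Q, pj Q y ∈ K₃ ↔ Sm J' c (inc ⇑Q y)) (a : MulAut (POmega F ⇑Q)) {y₀ : POmega F ⇑Q}
    (h1 : a • K₁ = H424.Spr.c y₀ • K₁) (hne : a • K₁ ≠ K₁) :
    ∃ y ∈ K₁, a • (H424.Spr.c y • K₂) ≠ H424.Spr.c y • K₂ ∧ a • (H424.Spr.c y • K₃) ≠ H424.Spr.c y • K₃ := by
  obtain ⟨t', ht'⟩ := exists_inc h.t_mem
  obtain ⟨Y, rfl⟩ := QuotientGroup.mk'_surjective _ y₀
  set b : MulAut (POmega F ⇑Q) := (H424.Spr.c (pj Q Y))⁻¹ * a with hb
  have hbK : b • K₁ = K₁ := by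
    rw [hb, mul_smul, h1]
    exact inv_smul_smul _ _
  have hbK' : b⁻¹ • K₁ = K₁ := by
    conv_lhs => rw [← hbK]
    exact inv_smul_smul _ _
  have ht1 : pj Q t' ∈ K₁ := by
    rw [m₁, ht']
    exact h.t_W
  have hτ1 : b (pj Q t') ∈ K₁ := by
    have := H424.Spr.mem_smul b ht1
    rwa [hbK] at this
  obtain ⟨τ, hτ⟩ := QuotientGroup.mk'_surjective _ (b (pj Q t'))
  have hτW : (fx (lin x)).map (lin (inc ⇑Q τ)) = fx (lin x) := by
    rw [← m₁]
    change QuotientGroup.mk' _ τ ∈ K₁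
    rw [hτ]
    exact hτ1
  -- the scalar
  obtain ⟨l, hl⟩ := h.scal f (inc_mem τ) hτW (by
    intro g hg hgW
    obtain ⟨g', rfl⟩ := exists_inc hg
    obtain ⟨x', hx'⟩ := exists_inc h.x_mem
    have hz : inc ⇑Q (g'⁻¹ * x' * g') = (inc ⇑Q g')⁻¹ * x * inc ⇑Q g' := by
      rw [map_mul, map_mul, map_inv, hx']
    have hzN : (inc ⇑Q (g'⁻¹ * x' * g')) ^ N = 1 := by
      have e : (inc ⇑Q g')⁻¹ * x * inc ⇑Q g' = (inc ⇑Q g')⁻¹ * x * ((inc ⇑Q g')⁻¹)⁻¹ := by rw [inv_inv]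
      rw [hz, e, conj_pow, h.x_pow, mul_one, mul_inv_cancel]
    have hzN' : (g'⁻¹ * x' * g') ^ N = 1 := by
      apply inc_inj (f := ⇑Q)
      rw [map_pow, hzN, map_one]
    have hzW : (fx (lin x)).map (lin ((inc ⇑Q g')⁻¹ * x * inc ⇑Q g')) = fx (lin x) := by
      have e : ∀ k k' : GL ι F, (fx (lin x)).map (lin (k * k')) = ((fx (lin x)).map (lin k')).map (lin k) := by
        intro k k'
        rw [← Submodule.map_comp]
        congr 1
        exact LinearMap.ext fun v => l_mul k k' v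
      rw [e, hgW, e]
      have e2 : (fx (lin x)).map (lin x) = fx (lin x) := by
        apply le_antisymm
        · rintro _ ⟨v, hv, rfl⟩
          rw [mem_fx.1 hv]
          exact hv
        · intro v hv
          exact ⟨v, hv, mem_fx.1 hv⟩
      rw [e2]
      exact h.inv_mem hgW
    have hzK : pj Q (g'⁻¹ * x' * g') ∈ K₁ := by
      rw [m₁, hz]
      exact hzW
    have h3 : b⁻¹ (pj Q (g'⁻¹ * x' * g')) ∈ K₁ := by
      have := H424.Spr.mem_smul b⁻¹ hzK
      rwa [hbK'] at this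
    have h4 : (b⁻¹ (pj Q (g'⁻¹ * x' * g'))) ^ N = 1 := by
      rw [← map_pow, ← map_pow, hzN', map_one, map_one]
    have h5 := congrArg b (h.one_comm m₁ ht' h3 h4)
    rw [map_mul b, map_mul b, MulAut.apply_inv_self, ← hτ] at h5
    rw [← hz]
    exact exact_comm h.good h.odd hzN h5.symm)
  obtain ⟨u₀, hu₀, hQ₀⟩ := h.exists_ns
  have hl0 : l ≠ 0 := by
    rintro rfl
    have h3 := q_lin (inc_mem τ) u₀
    rw [hl u₀ hu₀, zero_smul, QuadraticMap.map_zero] at h3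
    exact hQ₀ h3.symm
  have hne' : ∃ v, lin (inc ⇑Q τ) v ≠ l • v := by
    by_contra hcon
    push Not at hcon
    have h3 : τ ∈ Subgroup.center (Omega F ⇑Q) := by
      rw [Subgroup.mem_center_iff]
      intro g
      apply inc_inj
      apply l_ext
      intro v
      rw [map_mul, map_mul, l_mul, l_mul, hcon, hcon, map_smul]
    have h4 : pj Q τ = 1 := by
      rw [← MonoidHom.mem_ker, QuotientGroup.ker_mk']
      exact h3
    have h5 : pj Q t' = 1 := by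
      apply b.injective
      rw [map_one, ← h4]
      exact hτ.symm
    have h6 : t' ∈ Subgroup.center (Omega F ⇑Q) := by
      rwa [← MonoidHom.mem_ker, QuotientGroup.ker_mk'] at h5
    rcases (center_iff h.good _).1 h6 with h7 | h7
    · exact h.t_ne (by rw [← ht', h7])
    · have h8 := h.t_fix u₀ hu₀
      rw [← ht', h7, l_neg, l_one] at h8
      have h9 : (2 : F) • u₀ = 0 := by
        have : (2 : F) • u₀ = u₀ - (-u₀) := by module
        rw [this, h8, sub_self]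
      have hu0 : u₀ ≠ 0 := by
        rintro rfl
        exact hQ₀ (QuadraticMap.map_zero Q)
      have h10 : (2 : F) = 0 := (smul_eq_zero.1 h9).resolve_right hu0
      apply h.t_ne
      rw [← ht', h7]
      apply l_ext
      intro v
      rw [l_neg, l_one]
      have : -v = v - (2 : F) • v := by module
      rw [this, h10, zero_smul, sub_zero]
  have hat : a (pj Q t') = pj Q (Y * τ * Y⁻¹) := by
    have h3 : a = H424.Spr.c (pj Q Y) * b := by rw [hb, mul_inv_cancel_left]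
    rw [h3, MulAut.mul_apply, ← hτ, map_mul, map_mul, map_inv]
    rfl
  by_contra hcon
  push Not at hcon
  -- the projection
  obtain ⟨P, hPA, hPW, hPm⟩ := h.exists_proj
  have hPc : ∀ S : Module.End F (ι → F), (∀ v ∈ cm (lin x), S v ∈ cm (lin x)) → (∀ v ∈ fx (lin x), S v ∈ fx (lin x)) →
      ∀ v, P (S v) = S (P v) := by
    intro S hSA hSW v
    obtain ⟨w, hw, u, hu, rfl⟩ := h.decomp v
    rw [map_add, map_add, map_add, hPA u hu, hPW w hw, hPW _ (hSW w hw), hPA _ (hSA u hu), zero_add, zero_add]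
  set U : Submodule F (ι → F) := ((fx (lin x)).map (lin (inc ⇑Q Y))).map P with hU
  have star : ∀ g : Omega F ⇑Q, (fx (lin x)).map (lin (inc ⇑Q g)) = fx (lin x) →
      (∀ v, J (lin ((inc ⇑Q g)⁻¹ * t * inc ⇑Q g) v) = lin ((inc ⇑Q g)⁻¹ * t * inc ⇑Q g) (J v)) →
      (∀ v, J' (lin ((inc ⇑Q g)⁻¹ * t * inc ⇑Q g) v) = lin ((inc ⇑Q g)⁻¹ * t * inc ⇑Q g) (J' v)) →
      ∀ v ∈ U.map (lin (inc ⇑Q g)⁻¹), J v ∈ U.map (lin (inc ⇑Q g)⁻¹) := by
    intro g hgW hg hg'
    have hgA : ∀ v ∈ cm (lin x), lin (inc ⇑Q g)⁻¹ v ∈ cm (lin x) := by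
      intro v hv
      exact h.pres ((omegaGL ⇑Q).inv_mem (inc_mem g)) (h.inv_mem hgW) hv
    have hgW' : ∀ v ∈ fx (lin x), lin (inc ⇑Q g)⁻¹ v ∈ fx (lin x) := by
      intro v hv
      rw [← h.inv_mem hgW]
      exact ⟨v, hv, rfl⟩
    -- invariance of the projection
    have main : ∀ J₁ : Module.End F (ι → F), (∀ v, J₁ (lin x v) = lin x (J₁ v)) →
        (∀ v ∈ cm (lin x), J₁ v = J v) → (∀ w ∈ (fx (lin x)).map (lin ((inc ⇑Q g)⁻¹ * inc ⇑Q Y)),
          J₁ w ∈ (fx (lin x)).map (lin ((inc ⇑Q g)⁻¹ * inc ⇑Q Y))) →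
        ∀ v ∈ U.map (lin (inc ⇑Q g)⁻¹), J v ∈ U.map (lin (inc ⇑Q g)⁻¹) := by
      rintro J₁ hJ₁ hag hinv _ ⟨_, ⟨_, ⟨w, hw, rfl⟩, rfl⟩, rfl⟩
      obtain ⟨w', hw', he⟩ := hinv (lin ((inc ⇑Q g)⁻¹ * inc ⇑Q Y) w) ⟨w, hw, rfl⟩
      refine ⟨P (lin (inc ⇑Q Y) w'), ⟨_, ⟨w', hw', rfl⟩, rfl⟩, ?_⟩
      rw [← hPc _ hgA hgW', ← hPc _ hgA hgW', ← l_mul, ← l_mul, he, ← hag _ (hPm _)]
      exact hPc J₁ (fun v hv => h.J_A hJ₁ hv) (fun v hv => h.J_W hJ₁ hv) _
    have hgK : pj Q g ∈ K₁ := by rw [m₁]; exact hgW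
    by_cases h3 : a • (H424.Spr.c (pj Q g) • K₂) = H424.Spr.c (pj Q g) • K₂
    · exact main J f.cx (fun _ _ => rfl) (h.key f m₂ a ht' hat hl0 hl hτW hne' hg h3)
    · exact main J' f'.cx agree (h.key f' m₃ a ht' hat hl0 hl hτW hne' hg' (hcon _ hgK h3))
  have hUA : U ≤ cm (lin x) := by
    rintro _ ⟨v, -, rfl⟩
    exact hPm v
  have hU0 : U ≠ ⊥ := by
    intro hbot
    apply hne
    rw [h1]
    apply H424.Spr.c_smul_self
    change pj Q Y ∈ K₁
    rw [m₁]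
    have h3 : (fx (lin x)).map (lin (inc ⇑Q Y)) ≤ fx (lin x) := by
      intro v hv
      have h4 : P v ∈ U := ⟨v, hv, rfl⟩
      rw [hbot, Submodule.mem_bot] at h4
      obtain ⟨w, hw, u, hu, rfl⟩ := h.decomp v
      rw [map_add, hPW w hw, hPA u hu, zero_add] at h4
      rw [h4, add_zero]
      exact hw
    exact Submodule.eq_of_le_of_finrank_eq h3 (l_finrank _ _)
  have hU2 : finrank F U ≤ 2 := by
    calc finrank F U ≤ finrank F ↥((fx (lin x)).map (lin (inc ⇑Q Y))) := Submodule.finrank_map_le _ _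
      _ = 2 := by rw [l_finrank, h.W_dim]
  have hinc1 : inc ⇑Q (1 : Omega F ⇑Q) = 1 := map_one _
  refine no_inv h.four (fun v hv => h.nd hv) (by rw [h.x_dim]; norm_num) f.sq f.irr hUA hU0 hU2 ?_ ?_
  · intro v hv
    have h3 := star 1 (by
      rw [hinc1]
      have : lin (1 : GL ι F) = LinearMap.id := LinearMap.ext fun v => l_one v
      rw [this, Submodule.map_id]) (by
      intro v
      rw [hinc1, inv_one, one_mul, mul_one, f.ct]) (by
      intro v
      rw [hinc1, inv_one, one_mul, mul_one, f'.ct])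
    have h4 : U.map (lin (inc ⇑Q (1 : Omega F ⇑Q))⁻¹) = U := by
      rw [hinc1, inv_one]
      have : lin (1 : GL ι F) = LinearMap.id := LinearMap.ext fun v => l_one v
      rw [this, Submodule.map_id]
    rw [h4] at h3
    exact h3 v hv
  · intro u hu hQ v hv
    obtain ⟨g, hg, w, hw, hQw, e1, e2, hgW⟩ := h.refl_el f hu hQ
    obtain ⟨g', rfl⟩ := exists_inc hg
    have hR : ∀ v ∈ cm (lin x), reflLin Q u v ∈ cm (lin x) := by
      intro v hv
      rw [reflLin_apply]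
      exact (cm (lin x)).sub_mem hv ((cm (lin x)).smul_mem _ hu)
    have i1 : ∀ v ∈ cm (lin x), lin (inc ⇑Q g')⁻¹ v = reflLin Q u v := by
      intro v hv
      apply l_inj (inc ⇑Q g')
      rw [l_inv', e1 _ (hR v hv), reflLin_reflLin hQ]
    have h3 := star g' hgW (h.conj_comm f hu hQ hw hQw e1 e2) (h.conj_comm f' hu hQ hw hQw e1 e2) v
      ⟨reflLin Q u v, hv, by rw [i1 _ (hUA hv), reflLin_reflLin hQ]⟩
    obtain ⟨u', hu', he⟩ := h3
    rw [i1 _ (hUA hu')] at he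
    rw [← he, reflLin_reflLin hQ]
    exact hu'

end main

theorem neg_mem_stab (W : Submodule F (ι → F)) : W.map (lin (-1 : GL ι F)) = W := by
  have h2 : lin (-1 : GL ι F) = -LinearMap.id := LinearMap.ext fun v => by
    rw [l_neg, l_one]
    rfl
  rw [h2, Submodule.map_neg, Submodule.map_id]

theorem neg_Sm (J : Module.End F (ι → F)) (c : F) : Sm J c (-1 : GL ι F) :=
  Or.inl fun v => by rw [l_neg, l_one, l_neg, l_one, map_neg]

/-- the end game in the quotient -/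
theorem end_gameF {f : (ι → F) → F} (hf : f = ⇑Q) {x t : GL ι F} {N : ℕ} (h : Cf Q x t N)
    {J J' : Module.End F (ι → F)} {c d : F} (g : Fj Q x t J c d) (g' : Fj Q x t J' c d)
    (agree : ∀ v ∈ cm (lin x), J' v = J v) {H₁ H₂ H₃ : Subgroup (GL ι F)}
    (m₁ : ∀ y : GL ι F, y ∈ H₁ ↔ (fx (lin x)).map (lin y) = fx (lin x)) (m₂ : ∀ y : GL ι F, y ∈ H₂ ↔ Sm J c y)
    (m₃ : ∀ y : GL ι F, y ∈ H₃ ↔ Sm J' c y) (a : MulAut (POmega F f))
    (h1 : ∃ y : POmega F f, a • tpQ f H₁ = H424.Spr.c y • tpQ f H₁) (hne : a • tpQ f H₁ ≠ tpQ f H₁) :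
    ∃ y ∈ tpQ f H₁, a • (H424.Spr.c y • tpQ f H₂) ≠ H424.Spr.c y • tpQ f H₂ ∧
      a • (H424.Spr.c y • tpQ f H₃) ≠ H424.Spr.c y • tpQ f H₃ := by
  subst hf
  obtain ⟨y₀, h1⟩ := h1
  exact h.end_game g g' agree
    (fun y => (mem_tpQ h.good ((m₁ _).2 (neg_mem_stab _))).trans (m₁ _))
    (fun y => (mem_tpQ h.good ((m₂ _).2 (neg_Sm _ _))).trans (m₂ _))
    (fun y => (mem_tpQ h.good ((m₃ _).2 (neg_Sm _ _))).trans (m₃ _)) a h1 hne

end Cfsg.Agent.H424.O8L
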