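import Cfsg.Agent.H424.Spr.O8.Hh
import Cfsg.Agent.H823.O8S.Defs

/-!
# S3938-OPLUS8, (O12) for helper823's plan (helper424)
-/

set_option autoImplicit false
set_option linter.unusedSectionVars false

namespace Cfsg.Agent.H424.O8L

open Module QuadraticMap Cfsg Cfsg.Geo
open Cfsg.Agent.LieClassical.OrthCore Cfsg.Agent.LieClassical.OrthFinite
open Cfsg.Agent.LieClassical.OrthTrans (Good)
open Cfsg.Agent.H951 (fx cm Inv mem_fx mem_cm)
open Cfsg.Agent.H884.El (lin)
open Cfsg.Agent.H823.O8S (RK Wit Two Fld U₁ U₂ NJ SW)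
open Cfsg.Agent.H708.O8 (I8 T8)
open scoped MatrixGroups Matrix Pointwise

variable {F : Type} [Field F] [Fintype F] {p a r k : ℕ} {x t : GL I8 F} {J J' : Module.End F (I8 → F)} {c d : F}

theorem fj_of {J : Module.End F (I8 → F)} (f : Fld J c d) (cx : J * lin x = lin x * J) (ct : J * lin t = lin t * J) :
    Fj (LieClassical.OrthForms.plusForm 4 F) x t J c d where
  sq v := by
    have h := congrArg (fun T : Module.End F (I8 → F) => T v) f.sq
    exact h
  irr := f.irr
  sim v := f.sim v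
  cx v := congrArg (fun T : Module.End F (I8 → F) => T v) cx
  ct v := congrArg (fun T : Module.End F (I8 → F) => T v) ct

theorem cf_of (hF : Nat.card F = p ^ a) (h : RK p a r k) (w : Wit x t (r ^ k)) :
    Cf (LieClassical.OrthForms.plusForm 4 F) x t (r ^ k) := by
  have hodd : Odd (r ^ k) := (Nat.odd_iff.2 (h.prim.odd (by have := h.ha; omega))).pow
  have hcop : (r ^ k).Coprime (Nat.card F) := by
    rw [hF]
    exact Nat.Coprime.pow _ _ ((Nat.Prime.coprime_iff_not_dvd h.prim.prime).2 h.prim.not_dvd)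
  have hpow : x ^ (r ^ k) = 1 := by
    rw [← w.x_ord]
    exact pow_orderOf_eq_one x
  refine
    { good := good_of_finite (LieClassical.OrthForms.nondeg_plusForm 4 F) (by
        rw [Module.finrank_fintype_fun_eq_card]
        simp)
      four := by rw [hF]; exact h.four
      dim := by simp
      odd := hodd
      cop := hcop
      cop' := ?_
      x_mem := w.x_mem
      t_mem := w.t_mem
      x_pow := hpow
      x_dim := w.x_dim
      t_fix := ?_
      t_ne := ?_ }
  · intro i hi hi6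
    apply Nat.Coprime.pow_left
    rw [Nat.Prime.coprime_iff_not_dvd h.prim.prime, hF, ← pow_mul]
    apply h.prim.not_dvd_sub
    intro hd
    have h1 := Nat.le_of_dvd (by have := h.ha; positivity) hd
    have h2 := h.ha
    nlinarith
  · intro v hv
    have hco : ∀ v, lin t (lin x v) = lin x (lin t v) := by
      intro v
      rw [← l_mul, ← l_mul, w.comm]
    have h1 : lin t v - v ∈ fx (lin x) := w.le (mem_cm.2 ⟨v, rfl⟩)
    have h2 : lin t v - v ∈ cm (lin x) := by
      obtain ⟨z, rfl⟩ := mem_cm.1 hv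
      refine mem_cm.2 ⟨lin t z - z, ?_⟩
      rw [map_sub, map_sub, hco]
      abel
    have hx : (lin x) ^ (r ^ k) = 1 := by
      rw [← l_pow, hpow]
      exact LinearMap.ext fun v => l_one v
    have h3 := (H951.isCompl_fx_cm (H383.Cov.coprime_ne_zero (F := F) hcop) hx).inf_eq_bot
    have h4 : lin t v - v ∈ fx (lin x) ⊓ cm (lin x) := ⟨h1, h2⟩
    rw [h3, Submodule.mem_bot] at h4
    exact sub_eq_zero.1 h4
  · intro ht
    have h1 := w.t_ord
    rw [ht, orderOf_one, H823.O8S.mt, hF] at h1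
    have h2 := h.four
    have h3 : Nat.gcd 2 (p ^ a - 1) ≤ 2 := Nat.gcd_le_left _ (by norm_num)
    have h4 : 0 < Nat.gcd 2 (p ^ a - 1) := Nat.gcd_pos_of_pos_left _ (by norm_num)
    have h5 : 2 ≤ (p ^ a + 1) / Nat.gcd 2 (p ^ a - 1) := by
      rw [Nat.le_div_iff_mul_le h4]
      omega
    omega

/-- **(O12)** -/
theorem hH (hF : Nat.card F = p ^ a) (h : RK p a r k) (w : Wit x t (r ^ k)) (f : Two x t J J' c d)
    (a : MulAut (T8 F)) (h1 : ∃ y : T8 F, a • U₁ x = H424.Spr.c y • U₁ x)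
    (_ : ∃ y : T8 F, a • U₂ J c = H424.Spr.c y • U₂ J c)
    (_ : ∃ y : T8 F, a • U₂ J' c = H424.Spr.c y • U₂ J' c) (hne : a • U₁ x ≠ U₁ x) :
    ∃ y ∈ U₁ x, a • (H424.Spr.c y • U₂ J c) ≠ H424.Spr.c y • U₂ J c ∧
      a • (H424.Spr.c y • U₂ J' c) ≠ H424.Spr.c y • U₂ J' c :=
  end_gameF (f := quadFormPlus 4 F) rfl (cf_of hF h w) (fj_of f.fJ f.cx f.ct) (fj_of f.fJ' f.cx' f.ct') f.agree
    (fun _ => Iff.rfl) (fun _ => Iff.rfl) (fun _ => Iff.rfl) a h1 hne

end Cfsg.Agent.H424.O8L
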