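import Cfsg.Agent.LieClassical.OrthFinite

/-!
# S3938, `PΩ⁺₈(q)`: linear algebra for the end game (helper424)

* `polar_J`, `polar_J_add` : a linear map `J` with `J² = c J - d`, `Q (J v) = d Q v`;
* `refl_J` : reflections of a plane normalise `F[J]`;
* `exists_eig` : an endomorphism whose conjugate by a reflection commutes with an irreducible one;
* `exists_scal` : all nonsingular vectors are eigenvectors;
* `no_inv` : a plane all of whose images under reflections are `J`-invariant.
-/

set_option autoImplicit false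
set_option linter.unusedSectionVars false

namespace Cfsg.Agent.H424.O8L

open Module QuadraticMap
open Cfsg.Agent.LieClassical.OrthCore Cfsg.Agent.LieClassical.OrthFinite

variable {F : Type*} [Field F] {V : Type*} [AddCommGroup V] [Module F V] {Q : QuadraticForm F V}

theorem Q_lin (a b : F) (v w : V) : Q (a • v + b • w) = a * a * Q v + b * b * Q w + a * b * polar Q v w := by
  rw [Q_add, QuadraticMap.map_smul, QuadraticMap.map_smul, polar_smul_left, polar_smul_right]
  simp only [smul_eq_mul]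
  ring

section J

variable {J : Module.End F V} {c d : F}

theorem d_ne_zero (irr : ∀ z : F, z * z - c * z + d ≠ 0) : d ≠ 0 := by
  have := irr 0
  simpa using this

theorem polar_sim (sim : ∀ v, Q (J v) = d * Q v) (v w : V) : polar Q (J v) (J w) = d * polar Q v w := by
  simp only [polar, ← map_add, sim]
  ring

/-- `b(v, J v) = c Q(v)` -/
theorem polar_J [Finite F] (sq : ∀ v, J (J v) = c • J v - d • v) (irr : ∀ z : F, z * z - c * z + d ≠ 0)
    (sim : ∀ v, Q (J v) = d * Q v) (v : V) : polar Q v (J v) = c * Q v := by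
  have hd := d_ne_zero irr
  have h1 : Q (J (J v)) = d * (d * Q v) := by rw [sim, sim]
  have h2 : Q (J (J v)) = c * c * (d * Q v) + d * d * Q v - c * d * polar Q v (J v) := by
    rw [sq]
    have e : c • J v - d • v = c • J v + (-d) • v := by module
    rw [e, Q_lin, sim, polar_comm Q (J v) v]
    ring
  have h3 : c * d * (polar Q v (J v) - c * Q v) = 0 := by
    linear_combination h2 - h1
  rcases mul_eq_zero.1 h3 with h4 | h4
  · have hc : c = 0 := (mul_eq_zero.1 h4).resolve_right hd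
    subst hc
    have h5 : polar Q (J v) (J (J v)) = d * polar Q v (J v) := polar_sim sim v (J v)
    rw [sq, zero_smul, zero_sub, polar_neg_right, polar_smul_right, polar_comm Q (J v) v] at h5
    have h6 : (2 : F) * (d * polar Q v (J v)) = 0 := by
      simp only [smul_eq_mul] at h5
      linear_combination -h5
    rcases mul_eq_zero.1 h6 with h7 | h7
    · exfalso
      have : CharP F 2 := CharTwo.of_one_ne_zero_of_two_eq_zero one_ne_zero h7
      have := Fintype.ofFinite F
      obtain ⟨z, hz⟩ := FiniteField.isSquare_of_char_two (F := F) (ringChar.eq F 2) d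
      apply irr z
      rw [← hz, zero_mul, sub_zero]
      have : (2 : F) * d = 0 := by rw [h7, zero_mul]
      linear_combination this
    · rw [(mul_eq_zero.1 h7).resolve_left hd, zero_mul]
  · linear_combination h4

theorem polar_J_add [Finite F] (sq : ∀ v, J (J v) = c • J v - d • v) (irr : ∀ z : F, z * z - c * z + d ≠ 0)
    (sim : ∀ v, Q (J v) = d * Q v) (v w : V) : polar Q (J v) w = c * polar Q v w - polar Q v (J w) := by
  have h := polar_J sq irr sim (v + w)
  have h1 := polar_J sq irr sim v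
  have h2 := polar_J sq irr sim w
  rw [map_add, polar_add_left, polar_add_right, polar_add_right, Q_add, h1, h2, polar_comm Q w (J v)] at h
  linear_combination h

/-- no eigenvectors -/
theorem no_eig (sq : ∀ v, J (J v) = c • J v - d • v) (irr : ∀ z : F, z * z - c * z + d ≠ 0) {v : V} (hv : v ≠ 0)
    (z : F) : J v ≠ z • v := by
  intro h
  have h1 := sq v
  rw [h, map_smul, h, smul_smul, smul_smul, ← sub_smul] at h1
  have h2 : (z * z - c * z + d) • v = 0 := by
    have : (z * z - c * z + d) • v = (z * z) • v - (c * z - d) • v := by module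
    rw [this, h1, sub_self]
  rcases smul_eq_zero.1 h2 with h3 | h3
  · exact irr z h3
  · exact hv h3

/-- an invariant nonzero subspace has dimension at least two -/
theorem two_le [FiniteDimensional F V] (sq : ∀ v, J (J v) = c • J v - d • v)
    (irr : ∀ z : F, z * z - c * z + d ≠ 0) {U : Submodule F V} (hU : ∀ v ∈ U, J v ∈ U) {v : V} (hv : v ∈ U)
    (h0 : v ≠ 0) : 2 ≤ finrank F U := by
  have hli : LinearIndependent F ![v, J v] := by
    rw [LinearIndependent.pair_iff' h0]
    intro z hz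
    exact no_eig sq irr h0 z hz.symm
  have h1 := finrank_span_eq_card hli
  have h2 : Submodule.span F (Set.range ![v, J v]) ≤ U := by
    rw [Submodule.span_le]
    rintro _ ⟨i, rfl⟩
    fin_cases i
    · exact hv
    · exact hU v hv
  have h3 := Submodule.finrank_mono h2
  rw [h1, Fintype.card_fin] at h3
  exact h3

/-- a plane invariant under `J` -/
theorem eq_span [FiniteDimensional F V] (sq : ∀ v, J (J v) = c • J v - d • v)
    (irr : ∀ z : F, z * z - c * z + d ≠ 0) {U : Submodule F V} (hU : ∀ v ∈ U, J v ∈ U) (h2 : finrank F U ≤ 2)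
    {v : V} (hv : v ∈ U) (h0 : v ≠ 0) {w : V} (hw : w ∈ U) : ∃ a b : F, w = a • v + b • J v := by
  have hli : LinearIndependent F ![v, J v] := by
    rw [LinearIndependent.pair_iff' h0]
    intro z hz
    exact no_eig sq irr h0 z hz.symm
  have h1 := finrank_span_eq_card hli
  have h2' : Submodule.span F (Set.range ![v, J v]) ≤ U := by
    rw [Submodule.span_le]
    rintro _ ⟨i, rfl⟩
    fin_cases i
    · exact hv
    · exact hU v hv
  have h3 : Submodule.span F (Set.range ![v, J v]) = U := by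
    apply Submodule.eq_of_le_of_finrank_le h2'
    rw [h1, Fintype.card_fin]
    exact h2
  rw [← h3, Matrix.range_cons, Matrix.range_cons, Matrix.range_empty, Set.union_empty, Set.singleton_union,
    Submodule.mem_span_pair] at hw
  obtain ⟨a, b, hab⟩ := hw
  exact ⟨a, b, hab.symm⟩

/-- reflections of a `J`-invariant plane normalise `F[J]` -/
theorem refl_J [Finite F] [FiniteDimensional F V] (sq : ∀ v, J (J v) = c • J v - d • v)
    (irr : ∀ z : F, z * z - c * z + d ≠ 0) (sim : ∀ v, Q (J v) = d * Q v) {U : Submodule F V}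
    (hU : ∀ v ∈ U, J v ∈ U) (h2 : finrank F U ≤ 2) {w : V} (hw : w ∈ U) (hQ : Q w ≠ 0) {v : V} (hv : v ∈ U) :
    reflLin Q w (J (reflLin Q w v)) = c • v - J v := by
  have h0 : w ≠ 0 := by
    rintro rfl
    exact hQ (QuadraticMap.map_zero Q)
  have r1 : reflLin Q w w = -w := by
    rw [reflLin_apply, polar_self']
    have : (Q w)⁻¹ * (2 * Q w) = 2 := by field_simp
    rw [this]
    module
  have r2 : reflLin Q w (J w) = J w - c • w := by
    rw [reflLin_apply, polar_J sq irr sim]
    have : (Q w)⁻¹ * (c * Q w) = c := by field_simp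
    rw [this]
  obtain ⟨a, b, rfl⟩ := eq_span sq irr hU h2 hw h0 hv
  rw [map_add, map_smul, map_smul, r1, r2]
  simp only [map_add, map_sub, map_smul, map_neg, r1, r2, sq]
  module

/-- `J`-invariant planes are anisotropic or totally singular -/
theorem aniso [Finite F] [FiniteDimensional F V] (sq : ∀ v, J (J v) = c • J v - d • v)
    (irr : ∀ z : F, z * z - c * z + d ≠ 0) (sim : ∀ v, Q (J v) = d * Q v) {U : Submodule F V}
    (hU : ∀ v ∈ U, J v ∈ U) (h2 : finrank F U ≤ 2) {w : V} (hw : w ∈ U) (h0 : w ≠ 0) (hQ : Q w = 0) :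
    ∀ v ∈ U, polar Q w v = 0 := by
  intro v hv
  obtain ⟨a, b, rfl⟩ := eq_span sq irr hU h2 hw h0 hv
  rw [polar_add_right, polar_smul_right, polar_smul_right, polar_self', polar_J sq irr sim, hQ]
  simp

end J

/-- an anisotropic plane represents every element -/
theorem exists_val [Finite F] [FiniteDimensional F V] {U : Submodule F V} (h2 : finrank F U = 2)
    (han : ∀ w ∈ U, w ≠ 0 → Q w ≠ 0) (a : F) : ∃ w ∈ U, Q w = a := by
  let bs := Module.finBasisOfFinrankEq F U h2
  let u : V := U.subtype (bs 0)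
  let v : V := U.subtype (bs 1)
  obtain ⟨x, hx0, hx⟩ := exists_ternary_zero (Q u) (Q v) (-a) (polar Q u v) 0 0
  have hli : LinearIndependent F ![u, v] := by
    have h := bs.linearIndependent.map' U.subtype (Submodule.ker_subtype U)
    have e : U.subtype ∘ bs = ![u, v] := by
      funext i
      fin_cases i <;> rfl
    rwa [e] at h
  have hmem : x 0 • u + x 1 • v ∈ U := U.add_mem (U.smul_mem _ (bs 0).2) (U.smul_mem _ (bs 1).2)
  have hQ : Q (x 0 • u + x 1 • v) = a * (x 2 * x 2) := by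
    rw [Q_lin]
    linear_combination hx
  have h2 : x 2 ≠ 0 := by
    intro h
    rw [h, mul_zero, mul_zero] at hQ
    have h3 : x 0 • u + x 1 • v = 0 := by
      by_contra h4
      exact han _ hmem h4 hQ
    obtain ⟨h5, h6⟩ := LinearIndependent.pair_iff.1 hli _ _ h3
    apply hx0
    funext i
    fin_cases i
    · exact h5
    · exact h6
    · exact h
  refine ⟨(x 2)⁻¹ • (x 0 • u + x 1 • v), U.smul_mem _ hmem, ?_⟩
  rw [QuadraticMap.map_smul, hQ, smul_eq_mul]
  field_simp

section count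

variable [Finite F] (hq : 4 ≤ Nat.card F)
include hq

theorem exists_three (s₀ : F) : ∃ s₁ s₂ s₃ : F, s₁ ≠ s₀ ∧ s₂ ≠ s₀ ∧ s₃ ≠ s₀ ∧ s₁ ≠ s₂ ∧ s₁ ≠ s₃ ∧ s₂ ≠ s₃ := by
  classical
  have := Fintype.ofFinite F
  rw [Nat.card_eq_fintype_card] at hq
  have h1 : 2 < (Finset.univ.erase s₀ : Finset F).card := by
    rw [Finset.card_erase_of_mem (Finset.mem_univ _), Finset.card_univ]
    omega
  obtain ⟨s₁, m1, s₂, m2, s₃, m3, h12, h13, h23⟩ := Finset.two_lt_card.1 h1
  exact ⟨s₁, s₂, s₃, (Finset.mem_erase.1 m1).1, (Finset.mem_erase.1 m2).1, (Finset.mem_erase.1 m3).1, h12, h13, h23⟩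

theorem zero_of_all {a b c : F} {s₀ : F} (h : ∀ s, s ≠ s₀ → a + s * b + s * s * c = 0) : a = 0 ∧ b = 0 ∧ c = 0 := by
  obtain ⟨s₁, s₂, s₃, m1, m2, m3, h12, h13, h23⟩ := exists_three hq s₀
  have e1 := h _ m1
  have e2 := h _ m2
  have e3 := h _ m3
  have f1 : b + (s₁ + s₂) * c = 0 := by
    have : (s₁ - s₂) * (b + (s₁ + s₂) * c) = 0 := by linear_combination e1 - e2
    exact (mul_eq_zero.1 this).resolve_left (sub_ne_zero.2 h12)
  have f2 : b + (s₁ + s₃) * c = 0 := by
    have : (s₁ - s₃) * (b + (s₁ + s₃) * c) = 0 := by linear_combination e1 - e3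
    exact (mul_eq_zero.1 this).resolve_left (sub_ne_zero.2 h13)
  have hc : c = 0 := by
    have : (s₂ - s₃) * c = 0 := by linear_combination f1 - f2
    exact (mul_eq_zero.1 this).resolve_left (sub_ne_zero.2 h23)
  subst hc
  have hb : b = 0 := by linear_combination f1
  subst hb
  exact ⟨by linear_combination e1, rfl, rfl⟩

/-- two values of a quadratic polynomial are not zero -/
theorem exists_two {a b c : F} (hc : c ≠ 0) : ∃ s₁ s₂ : F, s₁ ≠ s₂ ∧ a + s₁ * b + s₁ * s₁ * c ≠ 0 ∧
    a + s₂ * b + s₂ * s₂ * c ≠ 0 := by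
  by_contra hcon
  push Not at hcon
  by_cases h : ∃ s₀, a + s₀ * b + s₀ * s₀ * c ≠ 0
  · obtain ⟨s₀, hs₀⟩ := h
    exact hc (zero_of_all hq (s₀ := s₀) fun s hs => hcon s₀ s hs.symm hs₀).2.2
  · push Not at h
    exact hc (zero_of_all hq (s₀ := 0) fun s _ => h s).2.2

end count

/-- **an endomorphism whose conjugate by a reflection commutes with an irreducible one** -/
theorem exists_eig [FiniteDimensional F V] {A : Submodule F V}
    (hA : ∀ v ∈ A, (∀ w ∈ A, polar Q v w = 0) → v = 0) (h3 : 3 ≤ finrank F A) {X T : Module.End F V}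
    (hX : ∀ v ∈ A, X v ∈ A) (irr : ∀ K : Submodule F V, K ≤ A → (∀ v ∈ K, X v ∈ K) → K = ⊥ ∨ K = A)
    (h1 : ∀ v ∈ A, T (X v) = X (T v)) {u : V} (hu : u ∈ A) (hQ : Q u ≠ 0)
    (h2 : ∀ v ∈ A, reflLin Q u (T (reflLin Q u (X v))) = X (reflLin Q u (T (reflLin Q u v)))) :
    ∃ μ : F, T u = μ • u := by
  let K : Submodule F V := A ⊓ LinearMap.ker (T - (reflLin Q u) ∘ₗ T ∘ₗ (reflLin Q u))
  have hK : ∀ v, v ∈ K ↔ v ∈ A ∧ T v = reflLin Q u (T (reflLin Q u v)) := by
    intro v
    rw [Submodule.mem_inf, LinearMap.mem_ker, LinearMap.sub_apply, sub_eq_zero]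
    rfl
  have hKA : K = A := by
    refine (irr K inf_le_left fun v hv => ?_).resolve_left ?_
    · obtain ⟨g1, g2⟩ := (hK v).1 hv
      exact (hK _).2 ⟨hX v g1, by rw [h1 v g1, g2, h2 v g1]⟩
    · let f : A →ₗ[F] F × F := (((polarBilin Q u).comp A.subtype).prod ((polarBilin Q u).comp (T.comp A.subtype)))
      have h4 : LinearMap.ker f ≠ ⊥ := by
        apply LinearMap.ker_ne_bot_of_finrank_lt
        rw [Module.finrank_prod, Module.finrank_self]
        omega
      obtain ⟨v, hv, hv0⟩ := (Submodule.ne_bot_iff _).1 h4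
      rw [LinearMap.mem_ker] at hv
      have e1 : polar Q u v = 0 := congrArg Prod.fst hv
      have e2 : polar Q u (T v) = 0 := congrArg Prod.snd hv
      intro hb
      apply hv0
      have h5 : (v : V) ∈ K := by
        rw [hK]
        refine ⟨v.2, ?_⟩
        have e3 : reflLin Q u (v : V) = v := by rw [reflLin_apply, e1, mul_zero, zero_smul, sub_zero]
        rw [e3, reflLin_apply, e2, mul_zero, zero_smul, sub_zero]
      rw [hb, Submodule.mem_bot] at h5
      exact Subtype.ext h5
  obtain ⟨v, hv, hv0⟩ : ∃ v ∈ A, polar Q u v ≠ 0 := by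
    by_contra hcon
    push Not at hcon
    have : u = 0 := hA u hu hcon
    apply hQ
    rw [this, QuadraticMap.map_zero]
  have h4 : v ∈ K := by rw [hKA]; exact hv
  have h5 := ((hK v).1 h4).2
  have h6 : reflLin Q u (T v) = T (reflLin Q u v) := by
    rw [h5, reflLin_reflLin hQ]
  rw [reflLin_apply, reflLin_apply, map_sub, map_smul, sub_right_inj, mul_smul, mul_smul] at h6
  have h7 := smul_right_injective V (inv_ne_zero hQ) h6
  refine ⟨(polar Q u v)⁻¹ * polar Q u (T v), ?_⟩
  rw [mul_smul, h7, smul_smul, inv_mul_cancel₀ hv0, one_smul]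

/-- **all nonsingular vectors are eigenvectors** -/
theorem exists_scal [Finite F] (hq : 4 ≤ Nat.card F) {A : Submodule F V} {T : Module.End F V}
    (h : ∀ u ∈ A, Q u ≠ 0 → ∃ μ : F, T u = μ • u) {u₀ : V} (hu₀ : u₀ ∈ A) (hQ₀ : Q u₀ ≠ 0) :
    ∃ μ : F, ∀ v ∈ A, T v = μ • v := by
  obtain ⟨l, hl⟩ := h u₀ hu₀ hQ₀
  refine ⟨l, fun v hv => ?_⟩
  have hu0 : u₀ ≠ 0 := by
    rintro rfl
    exact hQ₀ (QuadraticMap.map_zero Q)
  by_cases hd : ∃ z : F, z • u₀ = v
  · obtain ⟨z, rfl⟩ := hd
    rw [map_smul, hl, smul_comm]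
  · push Not at hd
    have hli : LinearIndependent F ![u₀, v] := (LinearIndependent.pair_iff' hu0).2 hd
    have hval : ∀ s : F, Q (v + s • u₀) = Q v + s * polar Q v u₀ + s * s * Q u₀ := by
      intro s
      rw [Q_add, QuadraticMap.map_smul, polar_smul_right, smul_eq_mul, smul_eq_mul]
      ring
    obtain ⟨s₁, s₂, hs, n1, n2⟩ := exists_two hq (a := Q v) (b := polar Q v u₀) hQ₀
    rw [← hval] at n1 n2
    obtain ⟨m₁, hm₁⟩ := h _ (A.add_mem hv (A.smul_mem s₁ hu₀)) n1
    obtain ⟨m₂, hm₂⟩ := h _ (A.add_mem hv (A.smul_mem s₂ hu₀)) n2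
    rw [map_add, map_smul, hl] at hm₁ hm₂
    have e1 : (m₁ * s₁ - s₁ * l - (m₂ * s₂ - s₂ * l)) • u₀ + (m₁ - m₂) • v = 0 := by
      have f1 : T v = m₁ • (v + s₁ • u₀) - s₁ • l • u₀ := by rw [← hm₁]; abel
      have f2 : T v = m₂ • (v + s₂ • u₀) - s₂ • l • u₀ := by rw [← hm₂]; abel
      have f3 : m₁ • (v + s₁ • u₀) - s₁ • l • u₀ - (m₂ • (v + s₂ • u₀) - s₂ • l • u₀) = 0 := by
        rw [← f1, ← f2, sub_self]
      rw [← f3]
      module
    obtain ⟨g1, g2⟩ := LinearIndependent.pair_iff.1 hli _ _ e1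
    have g3 : m₁ = m₂ := sub_eq_zero.1 g2
    have g4 : (s₁ - s₂) * (m₁ - l) = 0 := by
      rw [← g3] at g1
      linear_combination g1
    have g5 : m₁ = l := sub_eq_zero.1 ((mul_eq_zero.1 g4).resolve_left (sub_ne_zero.2 hs))
    have f1 : T v = m₁ • (v + s₁ • u₀) - s₁ • l • u₀ := by rw [← hm₁]; abel
    rw [f1, g5]
    module

theorem perp_line {A : Submodule F V} (hA : ∀ v ∈ A, (∀ w ∈ A, polar Q v w = 0) → v = 0) {b h : V} (hb : b ∈ A)
    (hb0 : b ≠ 0) (hh : h ∈ A) (hp : ∀ v ∈ A, polar Q b v = 0 → polar Q h v = 0) : ∃ μ : F, h = μ • b := by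
  obtain ⟨z, hz, hz0⟩ : ∃ z ∈ A, polar Q b z ≠ 0 := by
    by_contra hcon
    push Not at hcon
    exact hb0 (hA b hb hcon)
  refine ⟨polar Q h z * (polar Q b z)⁻¹, ?_⟩
  rw [← sub_eq_zero]
  apply hA _ (A.sub_mem hh (A.smul_mem _ hb))
  intro v hv
  have h1 := hp (v - (polar Q b v * (polar Q b z)⁻¹) • z) (A.sub_mem hv (A.smul_mem _ hz)) (by
    rw [polar_sub_right, polar_smul_right, smul_eq_mul]
    field_simp
    ring)
  rw [polar_sub_right, polar_smul_right, smul_eq_mul] at h1
  rw [polar_sub_left, polar_smul_left, smul_eq_mul]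
  linear_combination h1

/-- **a plane with all its images under reflections `J`-invariant** -/
theorem no_inv [Finite F] [FiniteDimensional F V] (hq : 4 ≤ Nat.card F) {A : Submodule F V}
    (hA : ∀ v ∈ A, (∀ w ∈ A, polar Q v w = 0) → v = 0) (h5 : 5 ≤ finrank F A) {J : Module.End F V} {c d : F}
    (sq : ∀ v, J (J v) = c • J v - d • v) (irr : ∀ z : F, z * z - c * z + d ≠ 0) {U : Submodule F V}
    (hUA : U ≤ A) (h0 : U ≠ ⊥) (h2 : finrank F U ≤ 2) (hU : ∀ v ∈ U, J v ∈ U)
    (hR : ∀ u ∈ A, Q u ≠ 0 → ∀ v, reflLin Q u v ∈ U → reflLin Q u (J v) ∈ U) : False := by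
  obtain ⟨b, hb, hb0⟩ := (Submodule.ne_bot_iff _).1 h0
  have hJb := hU b hb
  have key : ∀ u ∈ A, Q u ≠ 0 → polar Q b u = 0 → polar Q (J b) u ≠ 0 → u ∈ U := by
    intro u hu hQ h1 h3
    have h4 := hR u hu hQ b (by
      rw [reflLin_apply, polar_comm Q u b, h1, mul_zero, zero_smul, sub_zero]
      exact hb)
    rw [reflLin_apply, polar_comm Q u] at h4
    have h6 : ((Q u)⁻¹ * polar Q (J b) u) • u ∈ U := by
      have := U.sub_mem hJb h4
      rwa [sub_sub_cancel] at this
    exact (Submodule.smul_mem_iff _ (mul_ne_zero (inv_ne_zero hQ) h3)).1 h6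
  obtain ⟨u₁, hu₁, k1, k2⟩ : ∃ u ∈ A, polar Q b u = 0 ∧ polar Q (J b) u ≠ 0 := by
    by_contra hcon
    push Not at hcon
    obtain ⟨μ, hμ⟩ := perp_line hA (hUA hb) hb0 (hUA hJb) hcon
    exact no_eig sq irr hb0 μ hμ
  obtain ⟨h, hhA, hhU, m1, m2⟩ : ∃ h ∈ A, h ∉ U ∧ polar Q b h = 0 ∧ polar Q (J b) h = 0 := by
    by_contra hcon
    push Not at hcon
    let f : A →ₗ[F] F × F := (((polarBilin Q b).comp A.subtype).prod ((polarBilin Q (J b)).comp A.subtype))
    have h6 : (LinearMap.ker f).map A.subtype ≤ U := by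
      rintro _ ⟨v, hv, rfl⟩
      by_contra hvU
      exact hcon v v.2 hvU (congrArg Prod.fst (LinearMap.mem_ker.1 hv)) (congrArg Prod.snd (LinearMap.mem_ker.1 hv))
    have h7 := Submodule.finrank_mono h6
    rw [Submodule.finrank_map_subtype_eq] at h7
    have h8 := LinearMap.finrank_range_add_finrank_ker f
    have h9 : finrank F (LinearMap.range f) ≤ 2 := by
      have := Submodule.finrank_le (LinearMap.range f)
      rwa [Module.finrank_prod, Module.finrank_self] at this
    omega
  have main : ∀ u ∈ A, polar Q b u = 0 → polar Q (J b) u ≠ 0 → polar Q u h = 0 := by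
    intro u hu h1 h3
    have h6 : ∀ s : F, u + s • h ∈ U ∨ Q (u + s • h) = 0 := by
      intro s
      by_contra hcon
      push Not at hcon
      apply hcon.1
      apply key _ (A.add_mem hu (A.smul_mem s hhA)) hcon.2
      · rw [polar_add_right, polar_smul_right, h1, m1, smul_zero, add_zero]
      · rw [polar_add_right, polar_smul_right, m2, smul_zero, add_zero]
        exact h3
    have h7 : ∃ s₀ : F, ∀ s, s ≠ s₀ → Q (u + s • h) = 0 := by
      by_cases h8 : ∃ s₀ : F, u + s₀ • h ∈ U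
      · obtain ⟨s₀, hs₀⟩ := h8
        refine ⟨s₀, fun s hs => (h6 s).resolve_left fun h9 => hhU ?_⟩
        have h10 := U.sub_mem h9 hs₀
        have h11 : (u + s • h) - (u + s₀ • h) = (s - s₀) • h := by module
        rw [h11] at h10
        exact (Submodule.smul_mem_iff _ (sub_ne_zero.2 hs)).1 h10
      · push Not at h8
        exact ⟨0, fun s _ => (h6 s).resolve_left (h8 s)⟩
    obtain ⟨s₀, hs₀⟩ := h7
    refine (zero_of_all hq (a := Q u) (b := polar Q u h) (c := Q h) (s₀ := s₀) fun s hs => ?_).2.1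
    rw [← hs₀ s hs, Q_add, QuadraticMap.map_smul, polar_smul_right, smul_eq_mul, smul_eq_mul]
    ring
  obtain ⟨μ, hμ⟩ := perp_line hA (hUA hb) hb0 hhA fun v hv hbv => by
    by_cases h6 : polar Q (J b) v = 0
    · have h7 := main (u₁ + v) (A.add_mem hu₁ hv) (by rw [polar_add_right, k1, hbv, add_zero]) (by
        rw [polar_add_right, h6, add_zero]
        exact k2)
      rw [polar_add_left, main u₁ hu₁ k1 k2, zero_add] at h7
      rw [polar_comm]
      exact h7
    · rw [polar_comm]
      exact main v hv hbv h6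
  exact hhU (hμ ▸ U.smul_mem μ hb)

end Cfsg.Agent.H424.O8L
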